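import Groth.Agent.Lefpen.H21.NL9
import Groth.Agent.Lefpen.H589.SubfieldFrame
import Groth.Agent.Lefpen.H608.TwistTriv
import Groth.Agent.Lefpen.H649.GenericSmooth
import Mathlib.FieldTheory.PurelyInseparable.Basic

/-!
# Assembly of the Noether-Lefschetz theorem in characteristic p

Conditional on the arithmetic input over a separably closed field `K` of characteristic `p` with a `p`-basis
containing the coefficients (`PDiv`, `InfDiv`) and on S4037 (`TorsFree`).
-/

set_option autoImplicit false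
universe u

open CategoryTheory AlgebraicGeometry Limits TopologicalSpace Opposite

namespace Groth.Agent.Lefpen.H21.Asm44

open LefPen Groth.Agent.CohqB.ProjBC Groth.Agent.Lefpen.H21.CiBase
  Groth.Agent.Lefpen.H21.PurInsep Groth.Agent.Lefpen.H21.PicTwist Groth.Agent.Grpsch.PicGrp
  Groth.Agent.Lefpen.H725.Frame Groth.Agent.Lefpen.H718.Reg

/-- The index set of the coefficients of forms of degrees `a j`. -/
abbrev Idx (r : ℕ) {d : ℕ} (a : Fin d → ℕ) : Type :=
  Σ j : Fin d, {m : Fin (r + 1) →₀ ℕ // m.degree = a j}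

instance (r : ℕ) {d : ℕ} (a : Fin d → ℕ) : Finite (Idx r a) := by
  have h : ∀ n : ℕ, Finite {m : Fin (r + 1) →₀ ℕ // m.degree = n} := by
    intro n
    have : {m : Fin (r + 1) →₀ ℕ | m.degree = n}.Finite := by
      have h1 : {m : Fin (r + 1) →₀ ℕ | m.degree = n} ⊆
          ((Finset.univ : Finset (Fin (r+1))).finsuppAntidiag n : Set _) := by
        intro m hm
        rw [Finset.mem_coe, Finset.mem_finsuppAntidiag]
        refine ⟨?_, Finset.subset_univ _⟩
        rw [← (show m.degree = n from hm), Finsupp.degree]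
        exact (Finset.sum_subset (Finset.subset_univ _) (fun i _ hi => by simpa using hi)).symm
      exact (Finset.finite_toSet _).subset h1
    exact this.to_subtype
  infer_instance

/-- The coefficients of a family of forms. -/
def coeffs {r : ℕ} {k : Type u} [Field k] {d : ℕ} {a : Fin d → ℕ} (G : ∀ j, Form r k (a j)) :
    Idx r a → k := fun jm ↦ MvPolynomial.coeff jm.2.1 (G jm.1).1

/-- Every invertible module on `V(G)` is some `O(e)`. -/
def PicTriv {r : ℕ} {k : Type u} [Field k] {d : ℕ} {a : Fin d → ℕ} (G : ∀ j, Form r k (a j)) : Prop :=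
  ∀ L : (ciIdeal G).subscheme.Modules, PicF.IsInvertible L →
    ∃ e : ℤ, Nonempty (L ≅ (Scheme.Modules.pullback (ciIdeal G).subschemeι).obj
      (Twist.twistProjSpace r k e))

/-- Every invertible module on `V(G)` is a `q`-th power modulo the `O(e)`. -/
def PDiv (q : ℕ) {r : ℕ} {k : Type u} [Field k] {d : ℕ} {a : Fin d → ℕ} (G : ∀ j, Form r k (a j)) :
    Prop :=
  ∀ L : (ciIdeal G).subscheme.Modules, PicF.IsInvertible L →
    ∃ (M : (ciIdeal G).subscheme.Modules) (e : ℤ), PicF.IsInvertible M ∧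
      Nonempty (CohB1.tensorMod L (CohB1.tensorPow M q) ≅
        (Scheme.Modules.pullback (ciIdeal G).subschemeι).obj (Twist.twistProjSpace r k e))

section

variable {r : ℕ} {k : Type u} [Field k] {d : ℕ} {a : Fin d → ℕ} {G : ∀ j, Form r k (a j)}

theorem picTriv_iff : PicTriv G ↔ ∀ c : Pic (ciIdeal G).subscheme,
    ∃ e : ℤ, c = hyp (ciIdeal G).subschemeι ^ e := by
  constructor
  · intro h c
    obtain ⟨L, hL, rfl⟩ := exists_mk c
    obtain ⟨e, he⟩ := h L hL
    exact ⟨e, (mk_eq_hyp_zpow_iff _ e hL).2 he⟩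
  · intro h L hL
    obtain ⟨e, he⟩ := h (mk L hL)
    exact ⟨e, (mk_eq_hyp_zpow_iff _ e hL).1 he⟩

theorem pdiv_iff (q : ℕ) : PDiv q G ↔ ∀ c : Pic (ciIdeal G).subscheme,
    ∃ (m : Pic (ciIdeal G).subscheme) (e : ℤ), c * m ^ q = hyp (ciIdeal G).subschemeι ^ e := by
  constructor
  · intro h c
    obtain ⟨L, hL, rfl⟩ := exists_mk c
    obtain ⟨M, e, hM, he⟩ := h L hL
    refine ⟨mk M hM, e, ?_⟩
    rw [← mk_tensorPow, mk_mul_mk]
    exact (mk_eq_hyp_zpow_iff _ e _).2 he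
  · intro h L hL
    obtain ⟨m, e, he⟩ := h (mk L hL)
    obtain ⟨M, hM, rfl⟩ := exists_mk m
    refine ⟨M, e, hM, ?_⟩
    rw [← mk_tensorPow, mk_mul_mk] at he
    exact (mk_eq_hyp_zpow_iff _ e _).1 he

/-- Iterating divisibility. -/
theorem pdiv_pow {p : ℕ} (h : PDiv p G) (n : ℕ) : PDiv (p ^ n) G := by
  rw [pdiv_iff] at h ⊢
  induction n with
  | zero =>
    intro c
    exact ⟨c⁻¹, 0, by simp⟩
  | succ n ih =>
    intro c
    obtain ⟨m, e, he⟩ := ih c
    obtain ⟨m', e', he'⟩ := h m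
    refine ⟨m'⁻¹, e - e' * (p ^ n : ℕ), ?_⟩
    have h1 : m ^ p ^ n = hyp (ciIdeal G).subschemeι ^ (e' * (p ^ n : ℕ)) * (m'⁻¹ ^ p) ^ p ^ n := by
      rw [zpow_mul, zpow_natCast, ← he', ← mul_pow]
      congr 1
      rw [inv_pow, mul_inv_cancel_right]
    rw [h1, ← pow_mul] at he
    rw [pow_succ', zpow_sub, ← he]
    rw [mul_comm (hyp _ ^ _) (m'⁻¹ ^ _), ← mul_assoc, mul_inv_cancel_right]

end

/-- If `c` is a `p^n`-th power modulo the powers of `O(1)` for all `n` then `c` is a power of `O(1)`. -/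
def InfDiv (p : ℕ) {r : ℕ} {k : Type u} [Field k] {d : ℕ} {a : Fin d → ℕ} (G : ∀ j, Form r k (a j)) :
    Prop :=
  ∀ L : (ciIdeal G).subscheme.Modules, PicF.IsInvertible L →
    (∀ n : ℕ, ∃ (M : (ciIdeal G).subscheme.Modules) (e : ℤ), PicF.IsInvertible M ∧
      Nonempty (CohB1.tensorMod L (CohB1.tensorPow M (p ^ n)) ≅
        (Scheme.Modules.pullback (ciIdeal G).subschemeι).obj (Twist.twistProjSpace r k e))) →
    ∃ e : ℤ, Nonempty (L ≅ (Scheme.Modules.pullback (ciIdeal G).subschemeι).obj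
      (Twist.twistProjSpace r k e))

/-- The first half of S4044 over `K` from `PDiv` and `InfDiv` over `K`. -/
theorem picTriv_of {r : ℕ} {k : Type u} [Field k] {d : ℕ} {a : Fin d → ℕ} {G : ∀ j, Form r k (a j)}
    {p : ℕ} (h1 : PDiv p G) (h2 : InfDiv p G) : PicTriv G :=
  fun L hL ↦ h2 L hL fun n ↦ pdiv_pow h1 n L hL

/-- The conclusion of S4037. -/
def TorsFree {r : ℕ} {k : Type u} [Field k] {d : ℕ} {a : Fin d → ℕ} (G : ∀ j, Form r k (a j)) : Prop :=
  (∀ L : (ciIdeal G).subscheme.Modules, PicF.IsInvertible L → ∀ m : ℕ, 1 ≤ m →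
      Nonempty (CohB1.tensorPow L m ≅ Coh.structureModule (ciIdeal G).subscheme) →
        Nonempty (L ≅ Coh.structureModule (ciIdeal G).subscheme)) ∧
    (∀ M : (ciIdeal G).subscheme.Modules, PicF.IsInvertible M → ∀ e : ℕ, 2 ≤ e →
      ¬ Nonempty (CohB1.tensorPow M e ≅
        (Scheme.Modules.pullback (ciIdeal G).subschemeι).obj (Twist.twistProjSpace r k 1)))

section descent

variable {K k : Type u} [Field K] [Field k] [Algebra K k] [IsPurelyInseparable K k]
  (p : ℕ) [Fact p.Prime] [CharP K p] {r d : ℕ} {a : Fin d → ℕ}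
  (G : ∀ j, Form r K (a j)) (G' : ∀ j, Form r k (a j))
  (hG : ∀ j, G' j = mapForm (algebraMap K k) (G j))

include p hG in
/-- From `K` to `k` (purely inseparable). -/
theorem picTriv_of_descent (h : PicTriv G) (htf : TorsFree G') : PicTriv G' :=
  fun L hL ↦ Groth.Agent.Lefpen.H21.NL9.forall_exists_iso_twist p G G' h htf.1 htf.2 hG L hL

include p hG in
/-- Variant with `InfDiv` over `k`. -/
theorem picTriv_of_descent' (h : PDiv p G) (h2 : InfDiv p G') (htf : TorsFree G') : PicTriv G' := by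
  rw [picTriv_iff]
  intro c
  obtain ⟨E, b, hb⟩ := Groth.Agent.Lefpen.H21.NL9.exists_pull_ciMap_eq_pow p G G' hG c
  have h3 : ∃ e : ℤ, c ^ p ^ E = hyp (ciIdeal G').subschemeι ^ e := by
    obtain ⟨L, hL, hLc⟩ := exists_mk (c ^ p ^ E)
    rw [hLc]
    obtain ⟨e, he⟩ := h2 L hL fun n ↦ by
      obtain ⟨m, e, he⟩ := (pdiv_iff _).1 (pdiv_pow h n) b
      obtain ⟨M, hM, hMm⟩ := exists_mk (pull (ciMap (algebraMap K k) G G' hG) m)
      have h5 : mk L hL * mk M hM ^ p ^ n = hyp (ciIdeal G').subschemeι ^ e := by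
        rw [← hLc, ← hMm, ← hb, ← map_pow, ← map_mul, he, map_zpow,
          Groth.Agent.Lefpen.H21.NL9.pull_ciMap_hyp]
      rw [← mk_tensorPow, mk_mul_mk] at h5
      exact ⟨M, e, hM, (mk_eq_hyp_zpow_iff _ e _).1 h5⟩
    exact ⟨e, (mk_eq_hyp_zpow_iff _ e hL).2 he⟩
  obtain ⟨e, he⟩ := h3
  exact exists_zpow_of_pow_eq_zpow (hyp (ciIdeal G').subschemeι) (fun x m hm hx ↦ by
      obtain ⟨N, hN, rfl⟩ := exists_mk x
      rw [← mk_tensorPow, mk_eq_one_iff] at hx
      rw [mk_eq_one_iff]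
      exact htf.1 N hN m hm hx) (fun x m hm hx ↦ by
      obtain ⟨N, hN, rfl⟩ := exists_mk x
      rw [← mk_tensorPow, ← zpow_one (hyp _), mk_eq_hyp_zpow_iff] at hx
      exact htf.2 N hN m hm hx) (x := c) (m := p ^ E)
    (Nat.one_le_pow _ _ (Fact.out : p.Prime).pos) he

end descent

section charp

variable (p : ℕ) [Fact p.Prime] {k : Type u} [Field k] [IsAlgClosed k] [CharP k p] {r d : ℕ}
  {a : Fin d → ℕ} (G : ∀ j, Form r k (a j))

/-- The field of definition. -/
theorem exists_model (ha : ∀ j, 1 ≤ a j) (hG : AlgebraicIndependent (⊥ : Subfield k) (coeffs G)) :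
    ∃ (K : Type u) (_ : Field K) (_ : Algebra K k) (_ : CharP K p) (_ : IsPurelyInseparable K k)
      (_ : IsSepClosed K) (F : Frame K (Idx r a)) (G0 : ∀ j, Form r K (a j)),
      (∀ jm, F.z jm = coeffs G0 jm) ∧ (∀ j, G j = mapForm (algebraMap K k) (G0 j)) ∧
      JacCond (fun j ↦ (G0 j).1) := by
  obtain ⟨K, F, hF, hs, hp⟩ := Groth.Agent.Lefpen.H589.SubfieldFrame.exists_subfield p k (coeffs G) hG
  have h1 : ∀ j, ∃ H : Form r K (a j), G j = mapForm (algebraMap K k) H := fun j ↦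
    exists_mapForm_eq (algebraMap K k) (G j) fun m hm ↦ ⟨F.z ⟨j, ⟨m, hm⟩⟩, hF ⟨j, ⟨m, hm⟩⟩⟩
  choose G0 hG0 using h1
  have h2 : CharP K p := inferInstance
  have h3 : ∀ jm, F.z jm = coeffs G0 jm := by
    intro jm
    apply (algebraMap K k).injective
    have h4 : algebraMap K k (F.z jm) = coeffs G jm := hF jm
    rw [h4]
    unfold coeffs
    rw [hG0 jm.1]
    exact MvPolynomial.coeff_map _ _ _
  refine ⟨K, inferInstance, inferInstance, h2, ?_, hs, F, G0, h3, hG0, ?_⟩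
  · rw [isPurelyInseparable_iff_pow_mem K p]
    intro x
    obtain ⟨n, hn⟩ := hp x
    exact ⟨n, ⟨_, hn⟩, rfl⟩
  · let _ : Algebra (⊥ : Subfield k) K := (Subfield.inclusion (bot_le : (⊥ : Subfield k) ≤ K)).toAlgebra
    have _ : IsScalarTower (⊥ : Subfield k) K k := IsScalarTower.of_algebraMap_eq fun _ ↦ rfl
    refine Groth.Agent.Lefpen.H649.GenericSmooth.jacCond_of_generic (⊥ : Subfield k)
      (fun j ↦ (G0 j).1) ha (fun j ↦ (G0 j).2) ?_
    refine AlgebraicIndependent.of_comp (IsScalarTower.toAlgHom (⊥ : Subfield k) K k) ?_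
    convert hG using 1
    funext jm
    change algebraMap K k (coeffs G0 jm) = _
    rw [← h3]
    exact hF jm

/-- **The characteristic `p` theorem**, from `p`-divisibility and S4037. -/
theorem picTriv_charP (ha : ∀ j, 1 ≤ a j) (hG : AlgebraicIndependent (⊥ : Subfield k) (coeffs G))
    (hdiv : ∀ (K : Type u) [Field K] [CharP K p] [IsSepClosed K] (F : Frame K (Idx r a))
      (G0 : ∀ j, Form r K (a j)), (∀ jm, F.z jm = coeffs G0 jm) → JacCond (fun j ↦ (G0 j).1) →
        PDiv p G0)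
    (hinf : ∀ (K : Type u) [Field K] [CharP K p] (G0 : ∀ j, Form r K (a j)),
      JacCond (fun j ↦ (G0 j).1) → InfDiv p G0)
    (htf : TorsFree G) : PicTriv G := by
  obtain ⟨K, _, _, _, _, _, F, G0, hF, hG0, hJ⟩ := exists_model p G ha hG
  exact picTriv_of_descent p G0 G hG0 (picTriv_of (hdiv K F G0 hF hJ) (hinf K G0 hJ)) htf

/-- The same, with `InfDiv` over `k` only. -/
theorem picTriv_charP' (ha : ∀ j, 1 ≤ a j) (hG : AlgebraicIndependent (⊥ : Subfield k) (coeffs G))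
    (hdiv : ∀ (K : Type u) [Field K] [CharP K p] [IsSepClosed K] (F : Frame K (Idx r a))
      (G0 : ∀ j, Form r K (a j)), (∀ jm, F.z jm = coeffs G0 jm) → JacCond (fun j ↦ (G0 j).1) →
        PDiv p G0)
    (hinf : InfDiv p G) (htf : TorsFree G) : PicTriv G := by
  obtain ⟨K, _, _, _, _, _, F, G0, hF, hG0, hJ⟩ := exists_model p G ha hG
  exact picTriv_of_descent' p G0 G hG0 (hdiv K F G0 hF hJ) hinf htf

end charp

/-- **The assembly of S4044.** `hdiv` = NL-4/5/7, `hinf` = NL-8, `htf` = S4037, `h0` = NL-10. -/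
theorem result_of
    (hdiv : ∀ (p : ℕ) [Fact p.Prime] (d : ℕ) (a : Fin d → ℕ), 1 ≤ d → (∀ j, 2 ≤ a j) →
      (2 < ∑ j, (a j - 1)) → ∀ (K : Type u) [Field K] [CharP K p] [IsSepClosed K]
      (F : Frame K (Idx (2 + d) a)) (G : ∀ j, Form (2 + d) K (a j)), (∀ jm, F.z jm = coeffs G jm) →
      JacCond (fun j ↦ (G j).1) → PDiv p G)
    (hinf : ∀ (p : ℕ) [Fact p.Prime] (d : ℕ) (a : Fin d → ℕ), 1 ≤ d → (∀ j, 1 ≤ a j) →
      ∀ (K : Type u) [Field K] [CharP K p] (G : ∀ j, Form (2 + d) K (a j)),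
      JacCond (fun j ↦ (G j).1) → InfDiv p G)
    (htf : ∀ (k : Type u) [Field k] [IsAlgClosed k] (d : ℕ), 1 ≤ d → ∀ (a : Fin d → ℕ),
      (∀ j, 1 ≤ a j) → ∀ (G : ∀ j : Fin d, LefPen.Form (2 + d) k (a j))
      [SmoothOfRelativeDimension 2
        ((LefPen.ciIdeal G).subschemeι ≫ CohB1.ProjSpace.toSpec (2 + d) k)], TorsFree G)
    (h0 : ∀ (k : Type u) [Field k] [IsAlgClosed k] [CharZero k] (d : ℕ) (a : Fin d → ℕ), 1 ≤ d →
      (∀ j, 2 ≤ a j) → (2 < ∑ j, (a j - 1)) →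
      (∀ (k' : Type u) [Field k'] [IsAlgClosed k'] (p : ℕ) [Fact p.Prime] [CharP k' p]
        (G : ∀ j, Form (2 + d) k' (a j)), AlgebraicIndependent (⊥ : Subfield k') (coeffs G) →
          PicTriv G) →
      ∀ (G : ∀ j, Form (2 + d) k (a j)), AlgebraicIndependent (⊥ : Subfield k) (coeffs G) →
        PicTriv G)
    (k : Type u) [Field k] [IsAlgClosed k] (d : ℕ) (hd : 1 ≤ d)
    (a : Fin d → ℕ) (ha : ∀ j, 2 ≤ a j) (hex : 2 < ∑ j, (a j - 1))
    (G : ∀ j : Fin d, LefPen.Form (2 + d) k (a j))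
    (hG : AlgebraicIndependent (⊥ : Subfield k)
      (fun jm : (Σ j : Fin d, {m : Fin (2 + d + 1) →₀ ℕ // m.degree = a j}) =>
        MvPolynomial.coeff jm.2.1 (G jm.1).1)) :
    (∀ L : (LefPen.ciIdeal G).subscheme.Modules, PicF.IsInvertible L →
      ∃ e : ℤ, Nonempty (L ≅ (Scheme.Modules.pullback (LefPen.ciIdeal G).subschemeι).obj (Twist.twistProjSpace (2 + d) k e))) ∧
    (∀ e : ℤ, Nonempty ((Scheme.Modules.pullback (LefPen.ciIdeal G).subschemeι).obj (Twist.twistProjSpace (2 + d) k e) ≅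
        Coh.structureModule (LefPen.ciIdeal G).subscheme) → e = 0) := by
  have ha1 : ∀ j, 1 ≤ a j := fun j ↦ le_trans one_le_two (ha j)
  refine ⟨?_, fun e h ↦ Groth.Agent.Lefpen.H608.TwistTriv.eq_zero_of_twist_trivial G (by omega)
    (fun j ↦ ha1 j) e h⟩
  have hp : ∀ (k' : Type u) [Field k'] [IsAlgClosed k'] (p : ℕ) [Fact p.Prime] [CharP k' p]
        (G : ∀ j, Form (2 + d) k' (a j)), AlgebraicIndependent (⊥ : Subfield k') (coeffs G) →
          PicTriv G := by
    intro k' _ _ p _ _ G' hG'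
    have hs := Groth.Agent.Lefpen.H649.GenericSmooth.smooth_of_generic_prime (n := 2) ha1 G' hG'
    exact picTriv_charP p G' ha1 hG' (fun K _ _ _ F G0 hF hJ ↦ hdiv p d a hd ha hex K F G0 hF hJ)
      (fun K _ _ G0 hJ ↦ hinf p d a hd ha1 K G0 hJ) (htf k' d hd a ha1 G')
  obtain ⟨p, hpk⟩ := CharP.exists k
  rcases CharP.char_is_prime_or_zero k p with h | rfl
  · have : Fact p.Prime := ⟨h⟩
    exact hp k p G hG
  · have : CharZero k := CharP.charP_to_charZero k
    exact h0 k d a hd ha hex hp G hG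

end Groth.Agent.Lefpen.H21.Asm44
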