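import Groth.Agent.Picfga.TorsionDescent
import Groth.Agent.Grpsch.PicGrp

/-!
# A power of an invertible module descends along a purely inseparable field extension

`exists_descent_pow`: `X` quasi-compact and quasi-separated over a field `k` of characteristic
`p`, `k'/k` purely inseparable; for every invertible module `L` on `X ×_k Spec k'` there are `E`
and an invertible module `M` on `X` such that `L ^ (p ^ E)` is the pullback of `M`.
`exists_descent_pow_isPullback` is the same for an arbitrary pullback square.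
-/

set_option autoImplicit false
set_option backward.isDefEq.respectTransparency false

universe u

open CategoryTheory CategoryTheory.Limits AlgebraicGeometry TopologicalSpace Opposite

namespace Groth.Agent.Lefpen.H21.PurInsep

open Groth.Agent.Fdesc Groth.Agent.Fdesc.LocGen Groth.Agent.Picfga.LineHom Groth.Agent.Picfga.LineDescent
  Groth.Agent.Picfga.FieldSections Groth.Agent.Picfga.TorsionDescent

variable {k k' : Type u} [Field k] [Field k'] [Algebra k k'] {X : Scheme.{u}}
  (f : X ⟶ Spec (CommRingCat.of k)) (p : ℕ) [Fact p.Prime] [CharP k p]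

include p in
/-- **A power of an invertible module descends along a purely inseparable field extension.** -/
theorem exists_descent_pow [IsPurelyInseparable k k'] [CompactSpace X]
    [QuasiSeparatedSpace X] {L : (pullback f (bc k k')).Modules}
    (hL : PicF.IsInvertible L) :
    ∃ (E : ℕ) (M : X.Modules), PicF.IsInvertible M ∧
      Nonempty ((Scheme.Modules.pullback (pullback.fst f (bc k k'))).obj M ≅
        CohB1.tensorPow L (p ^ E)) := by
  set π := pullback.fst f (bc k k') with hπ
  choose U₀ hxU₀ hU₀ e₀ he₀ using exists_local_gen f p hL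
  obtain ⟨t, ht⟩ := CompactSpace.elim_nhds_subcover (fun x ↦ (U₀ x : Set X))
    (fun x ↦ (U₀ x).isOpen.mem_nhds (hxU₀ x))
  let ι : Type u := {x : X // x ∈ t}
  let U : ι → X.Opens := fun x ↦ U₀ x.1
  have hcov : ⨆ i, U i = ⊤ := by
    rw [eq_top_iff]
    intro x _
    have : x ∈ ⋃ x ∈ t, (U₀ x : Set X) := by rw [ht]; trivial
    simp only [Set.mem_iUnion] at this
    obtain ⟨y, hy, hxy⟩ := this
    exact Opens.mem_iSup.2 ⟨⟨y, hy⟩, hxy⟩
  have hUc : ∀ i, IsCompact (U i : Set X) := fun i ↦ (hU₀ i.1).isCompact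
  have hUUc : ∀ i j, IsCompact ((U i ⊓ U j : X.Opens) : Set X) := fun i j ↦
    QuasiSeparatedSpace.inter_isCompact _ _ (U i).isOpen (hUc i) (U j).isOpen (hUc j)
  let e : ∀ i, Γ(L, π ⁻¹ᵁ U i) := fun i ↦ e₀ i.1
  have he : ∀ i, IsGen (e i) := fun i ↦ he₀ i.1
  -- transition functions of `L`
  choose g' hg' using fun i j ↦ exists_smul (he j)
    (π.preimage_mono (inf_le_right : U i ⊓ U j ≤ U j))
    (res L (π.preimage_mono (inf_le_left : U i ⊓ U j ≤ U i)) (e i))
  obtain ⟨E, hE⟩ := exists_pow_mem_finite (p := p) f (κ := ι × ι) (fun a ↦ U a.1 ⊓ U a.2)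
    (fun a ↦ hUUc a.1 a.2) (fun a ↦ g' a.1 a.2)
  have hc' : ∀ i j, ∃ c : Γ(X, U i ⊓ U j), π.app (U i ⊓ U j) c = g' i j ^ p ^ E :=
    fun i j ↦ hE E le_rfl (i, j)
  choose c hc using hc'
  obtain ⟨M, m, φ, hm, -, -⟩ := exists_descent π U hcov (L := CohB1.tensorPow L (p ^ E))
    (fun i ↦ LocGen.pow (e i) (p ^ E)) (fun i ↦ (he i).pow _) (fun V ↦ app_injective f V)
    (fun i j ↦ c i j) (fun i j ↦ by
      rw [hc, res_pow, res_pow, ← hg' i j, LocGen.smul_pow])
  exact ⟨E, M, isInvertible_of_gens hcov hm, ⟨φ⟩⟩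

/-! ### Arbitrary pullback squares -/

open Grpsch.PicGrp in
include p in
/-- The same in the Picard group, for `X ×_k Spec k'`. -/
theorem exists_pull_eq_pow_fst [IsPurelyInseparable k k'] [CompactSpace X]
    [QuasiSeparatedSpace X] (c : Pic (pullback f (bc k k'))) :
    ∃ (E : ℕ) (d : Pic X), pull (pullback.fst f (bc k k')) d = c ^ p ^ E := by
  obtain ⟨L, hL, rfl⟩ := exists_mk c
  obtain ⟨E, M, hM, hφ⟩ := exists_descent_pow f p hL
  refine ⟨E, mk M hM, ?_⟩
  rw [pull_mk, ← mk_tensorPow, mk_eq_iff]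
  exact hφ

open Grpsch.PicGrp in
include p in
/-- **A power of every class descends along a purely inseparable field extension**, for an
arbitrary pullback square. -/
theorem exists_pull_eq_pow {Y : Scheme.{u}} {π : Y ⟶ X} {q : Y ⟶ Spec (CommRingCat.of k')}
    {f : X ⟶ Spec (CommRingCat.of k)} (h : IsPullback π q f (bc k k'))
    [IsPurelyInseparable k k'] [CompactSpace X] [QuasiSeparatedSpace X] (c : Pic Y) :
    ∃ (E : ℕ) (d : Pic X), pull π d = c ^ p ^ E := by
  obtain ⟨E, d, hd⟩ := exists_pull_eq_pow_fst f p (pull h.isoPullback.inv c)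
  refine ⟨E, d, ?_⟩
  have h1 := congrArg (pull h.isoPullback.hom) hd
  rw [← pull_comp, map_pow, ← pull_comp, h.isoPullback_hom_fst, Iso.hom_inv_id, pull_id] at h1
  exact h1

open Grpsch.PicGrp in
include p in
/-- **A power of an invertible module descends along a purely inseparable field extension**, for an
arbitrary pullback square. -/
theorem exists_descent_pow_isPullback {Y : Scheme.{u}} {π : Y ⟶ X}
    {q : Y ⟶ Spec (CommRingCat.of k')} {f : X ⟶ Spec (CommRingCat.of k)}
    (h : IsPullback π q f (bc k k')) [IsPurelyInseparable k k'] [CompactSpace X]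
    [QuasiSeparatedSpace X] {L : Y.Modules} (hL : PicF.IsInvertible L) :
    ∃ (E : ℕ) (M : X.Modules), PicF.IsInvertible M ∧
      Nonempty ((Scheme.Modules.pullback π).obj M ≅ CohB1.tensorPow L (p ^ E)) := by
  obtain ⟨E, d, hd⟩ := exists_pull_eq_pow p h (mk L hL)
  obtain ⟨M, hM, rfl⟩ := exists_mk d
  refine ⟨E, M, hM, ?_⟩
  rwa [pull_mk, ← mk_tensorPow, mk_eq_iff] at hd

end Groth.Agent.Lefpen.H21.PurInsep
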