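import Groth.Agent.Lefpen.H705.HypIdeal
import Groth.Agent.Ega3A.PChart
import Groth.Agent.Lefpen.H21.PurInsep
import Groth.Agent.Grpsch.PicGrp

/-!
# Base change of hypersurfaces and complete intersections along a field extension

`φ : K →+* k` a homomorphism of fields, `pmap φ r : P^r_k ⟶ P^r_K`.

* `comap_hypIdeal`, `comap_ciIdeal`: the ideal of `V_+(G)` pulls back to the ideal of `V_+(φ G)`.
* `isPullback_ci`: `V(φ G) = V(G) ×_K k`.
* `nonempty_pull_twist`: `O_{V(G)}(e)` pulls back to `O_{V(φ G)}(e)`.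
-/

set_option autoImplicit false
universe u

open CategoryTheory AlgebraicGeometry Limits TopologicalSpace Opposite

namespace Groth.Agent.Lefpen.H21.CiBase

open LefPen Groth.Agent.Divis.IdealComap Groth.Agent.Fdesc.LocGen
  Groth.Agent.CohqB.ProjBC Groth.Agent.Lefpen.H705.HypIdeal

variable {K k : Type u} [Field K] [Field k] (φ : K →+* k) {r : ℕ}

/-- The image of a form under a homomorphism of fields. -/
noncomputable def mapForm {d : ℕ} (G : Form r K d) : Form r k d :=
  ⟨MvPolynomial.map φ G.1, (gmap φ r).map_mem G.2⟩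

@[simp] lemma mapForm_val {d : ℕ} (G : Form r K d) : (mapForm φ G).1 = MvPolynomial.map φ G.1 := rfl

lemma preimage_chart (j : Fin (r + 1)) : pmap φ r ⁻¹ᵁ chart r K j = chart r k j := by
  have h : pmap φ r ⁻¹ᵁ chart r K j =
      Proj.basicOpen (CohB1.polyGrading r k) (gmap φ r (MvPolynomial.X j)) :=
    Proj.map_preimage_basicOpen (gmap φ r) (irrelevant_le φ r) _
  rw [h, gmap_apply, MvPolynomial.map_X]

lemma appLE_dehom {d : ℕ} (G : Form r K d) (j : Fin (r + 1)) :
    (pmap φ r).appLE (chart r K j) (chart r k j) (preimage_chart φ j).ge (dehom G j) =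
      dehom (mapForm φ G) j := by
  have key : ∀ (s : MvPolynomial (Fin (r + 1)) k) (hs : gmap φ r (MvPolynomial.X j) = s)
      (hs1 : s ∈ CohB1.polyGrading r k 1)
      (e : Proj.basicOpen (CohB1.polyGrading r k) s ≤ pmap φ r ⁻¹ᵁ chart r K j),
      (pmap φ r).appLE (chart r K j) (Proj.basicOpen (CohB1.polyGrading r k) s) e (dehom G j) =
        (Proj.awayToSection (CohB1.polyGrading r k) s).hom
          (HomogeneousLocalization.Away.mk (CohB1.polyGrading r k) hs1 d (mapForm φ G).1
            (by rw [smul_eq_mul, mul_one]; exact (mapForm φ G).2)) := by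
    intro s hs hs1 e
    subst hs
    have h1 := Proj.awayToSection_comp_appLE (gmap φ r) (irrelevant_le φ r) (LefPen.X_mem r K j)
    have h2 := ConcreteCategory.congr_hom h1
      (HomogeneousLocalization.Away.mk (CohB1.polyGrading r K) (LefPen.X_mem r K j) d G.1
        (by rw [smul_eq_mul, mul_one]; exact G.2))
    refine h2.trans ?_
    change (Proj.awayToSection (CohB1.polyGrading r k) _).hom
      (HomogeneousLocalization.Away.map (gmap φ r) _ _) = _
    rw [HomogeneousLocalization.Away.map_mk]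
    rfl
  exact key (MvPolynomial.X j) (by simp) (LefPen.X_mem r k j) _

/-- **The ideal of a hypersurface is compatible with extension of the base field.** -/
theorem comap_hypIdeal {d : ℕ} (G : Form r K d) :
    (hypIdeal G).comap (pmap φ r) = hypIdeal (mapForm φ G) := by
  refine Scheme.IdealSheafData.ext_of_iSup_eq_top
    (fun j : Fin (r + 1) ↦ (⟨chart r k j, isAffineOpen_chart j⟩ :
      (CohB1.ProjSpace r k).affineOpens)) iSup_chart fun j ↦ ?_
  rw [ideal_comap (hypIdeal G) (pmap φ r) ⟨chart r K j, isAffineOpen_chart j⟩ _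
    (preimage_chart φ j).ge, hypIdeal_ideal_of_le G j _ le_rfl,
    hypIdeal_ideal_of_le (mapForm φ G) j _ le_rfl, Ideal.map_span, Set.image_singleton,
    ores_refl, ores_refl]
  congr 2
  exact appLE_dehom φ G j

/-- **The ideal of a complete intersection is compatible with extension of the base field.** -/
theorem comap_ciIdeal {ι : Type} {a : ι → ℕ} (G : ∀ j, Form r K (a j)) :
    (ciIdeal G).comap (pmap φ r) = ciIdeal (fun j ↦ mapForm φ (G j)) := by
  unfold ciIdeal
  rw [(Scheme.IdealSheafData.map_gc (pmap φ r)).l_iSup]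
  exact iSup_congr fun j ↦ comap_hypIdeal φ (G j)

/-- A closed subscheme pulls back to the closed subscheme of the inverse image ideal. -/
theorem isPullback_comap {P X : Scheme.{u}} (I : X.IdealSheafData) (g : P ⟶ X) :
    IsPullback (I.comap g).subschemeι ((I.comapIso g).hom ≫ pullback.snd g I.subschemeι) g
      I.subschemeι := by
  have h := IsPullback.of_hasPullback g I.subschemeι
  refine IsPullback.of_iso h (I.comapIso g).symm (Iso.refl _) (Iso.refl _) (Iso.refl _) ?_ ?_ ?_ ?_
  · simp
  · rw [Iso.symm_hom, Iso.refl_hom, Category.comp_id, Iso.inv_hom_id_assoc]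
  · simp
  · simp

/-- **Base change of complete intersections**: `V(φ G) = V(G) ×_{P^r_K} P^r_k`. -/
theorem exists_isPullback_ci {ι : Type} {a : ι → ℕ} (G : ∀ j, Form r K (a j))
    (G' : ∀ j, Form r k (a j)) (hG : ∀ j, G' j = mapForm φ (G j)) :
    ∃ π : (ciIdeal G').subscheme ⟶ (ciIdeal G).subscheme,
      IsPullback (ciIdeal G').subschemeι π (pmap φ r) (ciIdeal G).subschemeι := by
  have h1 : ciIdeal G' = (ciIdeal G).comap (pmap φ r) := by
    rw [comap_ciIdeal]
    congr 1
    funext j
    exact hG j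
  rw [h1]
  exact ⟨_, isPullback_comap (ciIdeal G) (pmap φ r)⟩

/-- The projection `V(φ G) ⟶ V(G)`. -/
noncomputable def ciMap {ι : Type} {a : ι → ℕ} (G : ∀ j, Form r K (a j))
    (G' : ∀ j, Form r k (a j)) (hG : ∀ j, G' j = mapForm φ (G j)) :
    (ciIdeal G').subscheme ⟶ (ciIdeal G).subscheme :=
  (exists_isPullback_ci φ G G' hG).choose

section

variable {ι : Type} {a : ι → ℕ} (G : ∀ j, Form r K (a j)) (G' : ∀ j, Form r k (a j))
  (hG : ∀ j, G' j = mapForm φ (G j))

theorem isPullback_ciMap :
    IsPullback (ciIdeal G').subschemeι (ciMap φ G G' hG) (pmap φ r) (ciIdeal G).subschemeι :=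
  (exists_isPullback_ci φ G G' hG).choose_spec

@[reassoc]
theorem ciMap_subschemeι : ciMap φ G G' hG ≫ (ciIdeal G).subschemeι =
    (ciIdeal G').subschemeι ≫ pmap φ r := (isPullback_ciMap φ G G' hG).w.symm

/-- **Base change of complete intersections**: `V(φ G) = V(G) ×_K k`. -/
theorem isPullback_ciMap_toSpec :
    IsPullback (ciMap φ G G' hG) ((ciIdeal G').subschemeι ≫ CohB1.ProjSpace.toSpec r k)
      ((ciIdeal G).subschemeι ≫ CohB1.ProjSpace.toSpec r K)
      (Spec.map (CommRingCat.ofHom φ)) :=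
  (isPullback_ciMap φ G G' hG).flip.paste_vert (isPullback_pmap φ r)

/-- `O_{V(G)}(e)` pulls back to `O_{V(φ G)}(e)`. -/
theorem nonempty_pull_twist (e : ℤ) :
    Nonempty ((Scheme.Modules.pullback (ciMap φ G G' hG)).obj
        ((Scheme.Modules.pullback (ciIdeal G).subschemeι).obj (Twist.twistProjSpace r K e)) ≅
      (Scheme.Modules.pullback (ciIdeal G').subschemeι).obj (Twist.twistProjSpace r k e)) :=
  ⟨(Scheme.Modules.pullbackComp (ciMap φ G G' hG) (ciIdeal G).subschemeι).app _ ≪≫
    (Scheme.Modules.pullbackCongr (ciMap_subschemeι φ G G' hG)).app _ ≪≫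
    ((Scheme.Modules.pullbackComp (ciIdeal G').subschemeι (pmap φ r)).app _).symm ≪≫
    (Scheme.Modules.pullback (ciIdeal G').subschemeι).mapIso
      (Groth.Agent.Ega3A.PChart.pullTwistIso φ r e)⟩

end

/-- A form with coefficients in the image of `φ` comes from a form over `K`. -/
theorem exists_mapForm_eq {d : ℕ} (G' : Form r k d)
    (h : ∀ m : Fin (r + 1) →₀ ℕ, m.degree = d → MvPolynomial.coeff m G'.1 ∈ Set.range φ) :
    ∃ G : Form r K d, G' = mapForm φ G := by
  classical
  have h1 : G'.1 ∈ Set.range (MvPolynomial.map (σ := Fin (r + 1)) φ) := by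
    rw [MvPolynomial.mem_range_map_iff_coeffs_subset]
    rintro _ hx
    obtain ⟨m, hm, rfl⟩ := MvPolynomial.mem_coeffs_iff.1 hx
    refine h m ?_
    have h2 : G'.1.IsHomogeneous d := (MvPolynomial.mem_homogeneousSubmodule _ _).1 G'.2
    have h3 := h2 (MvPolynomial.mem_support_iff.1 hm)
    rw [Finsupp.degree_eq_weight_one]
    exact h3
  obtain ⟨q, hq⟩ := h1
  have hd : q ∈ CohB1.polyGrading r K d := by
    rw [CohB1.polyGrading, MvPolynomial.mem_homogeneousSubmodule]
    have h2 : G'.1.IsHomogeneous d := (MvPolynomial.mem_homogeneousSubmodule _ _).1 G'.2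
    rw [← hq] at h2
    exact MvPolynomial.IsHomogeneous.of_map φ.injective h2
  exact ⟨⟨q, hd⟩, Subtype.ext hq.symm⟩

end Groth.Agent.Lefpen.H21.CiBase
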