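import Groth.Agent.Grpsch.PicGrp
import Groth.Agent.Ega3B.ProjTwist

/-!
# The class of `O(e)` in the Picard group

* `o r k e`: the class of `O(e)` on `P^r_k`; `o_eq_zpow`: it is the `e`-th power of the class of
  `O(1)`.
* `mk_pullback_twist`: the class of `i^* O(e)` is the `e`-th power of the class of `i^* O(1)`.
* `exists_zpow_of_pow_eq_zpow`: in a torsion-free abelian group with an element `h` which is not
  divisible, `x ^ m = h ^ e` (`m ≥ 1`) implies that `x` is a power of `h`.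
-/

set_option autoImplicit false
universe u

open CategoryTheory CategoryTheory.Limits AlgebraicGeometry

namespace Groth.Agent.Lefpen.H21.PicTwist

open Groth.Agent.Fdesc.LocGen Groth.Agent.Grpsch.PicGrp

variable (r : ℕ) (k : Type u) [CommRing k]

/-- The class of `O(e)` on projective space. -/
noncomputable def o (e : ℤ) : Pic (CohB1.ProjSpace r k) :=
  mk (Twist.twistProjSpace r k e) (Groth.Agent.Ega3B.ProjTwist.isInvertible_twistProjSpace r k e)

theorem o_add (m n : ℤ) : o r k (m + n) = o r k m * o r k n := by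
  have h := Groth.Agent.Ega2.TwistInv.isIso_mulHom
    (Groth.Agent.Ega3B.ProjTwist.coveredByOne r k) (rfl : m + n = m + n)
  exact (mk_congr (@asIso _ _ _ _ _ h)).symm

theorem o_zero : o r k 0 = 1 := by
  obtain ⟨e⟩ := Groth.Agent.Ega2.TwistInv.nonempty_unit_iso (CohB1.polyGrading r k)
  exact (mk_congr e).symm

theorem o_eq_zpow (e : ℤ) : o r k e = o r k 1 ^ e := by
  let f : Multiplicative ℤ →* Pic (CohB1.ProjSpace r k) :=
    { toFun := fun n ↦ o r k n.toAdd
      map_one' := o_zero r k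
      map_mul' := fun m n ↦ o_add r k m.toAdd n.toAdd }
  have h := map_zpow f (Multiplicative.ofAdd 1) e
  have h1 : Multiplicative.ofAdd (1 : ℤ) ^ e = Multiplicative.ofAdd e := by
    rw [← ofAdd_zsmul, smul_eq_mul, mul_one]
  rw [h1] at h
  exact h

variable {r k}

/-- The class of `i^* O(1)`. -/
noncomputable def hyp {X : Scheme.{u}} (i : X ⟶ CohB1.ProjSpace r k) : Pic X := pull i (o r k 1)

theorem isInvertible_pullback_twist {X : Scheme.{u}} (i : X ⟶ CohB1.ProjSpace r k) (e : ℤ) :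
    PicF.IsInvertible ((Scheme.Modules.pullback i).obj (Twist.twistProjSpace r k e)) :=
  isInvertible_pullback i (Groth.Agent.Ega3B.ProjTwist.isInvertible_twistProjSpace r k e)

theorem mk_pullback_twist {X : Scheme.{u}} (i : X ⟶ CohB1.ProjSpace r k) (e : ℤ) :
    mk ((Scheme.Modules.pullback i).obj (Twist.twistProjSpace r k e))
      (isInvertible_pullback_twist i e) = hyp i ^ e := by
  have h := pull_mk i (Groth.Agent.Ega3B.ProjTwist.isInvertible_twistProjSpace r k e)
  rw [hyp, ← map_zpow, ← o_eq_zpow]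
  exact h.symm

/-- An invertible module is isomorphic to `i^* O(e)` iff its class is `h ^ e`. -/
theorem mk_eq_hyp_zpow_iff {X : Scheme.{u}} (i : X ⟶ CohB1.ProjSpace r k) (e : ℤ) {L : X.Modules}
    (hL : PicF.IsInvertible L) : mk L hL = hyp i ^ e ↔
      Nonempty (L ≅ (Scheme.Modules.pullback i).obj (Twist.twistProjSpace r k e)) := by
  rw [← mk_pullback_twist, mk_eq_iff]

/-- A group-theoretic lemma: if `P` is torsion-free and `h` is not divisible, then
`x ^ m = h ^ e` with `m ≥ 1` implies that `x` is a power of `h`. -/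
theorem exists_zpow_of_pow_eq_zpow {P : Type*} [CommGroup P] (h : P)
    (htf : ∀ (x : P) (m : ℕ), 1 ≤ m → x ^ m = 1 → x = 1)
    (hnd : ∀ (x : P) (m : ℕ), 2 ≤ m → x ^ m ≠ h) {x : P} {m : ℕ} (hm : 1 ≤ m) {e : ℤ}
    (hx : x ^ m = h ^ e) : ∃ f : ℤ, x = h ^ f := by
  set g := Int.gcd m e with hg
  have hg0 : 0 < g := Int.gcd_pos_of_ne_zero_left _ (by omega)
  obtain ⟨m', hm'⟩ : (g : ℤ) ∣ m := Int.gcd_dvd_left ..
  obtain ⟨e', he'⟩ : (g : ℤ) ∣ e := Int.gcd_dvd_right ..
  have hgz : (g : ℤ) ≠ 0 := by omega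
  have hco : IsCoprime m' e' := by
    have h1 := Int.gcd_eq_gcd_ab m e
    refine ⟨Int.gcdA m e, Int.gcdB m e, ?_⟩
    apply mul_left_cancel₀ hgz
    calc (g : ℤ) * (Int.gcdA m e * m' + Int.gcdB m e * e')
        = (g * m') * Int.gcdA m e + (g * e') * Int.gcdB m e := by ring
      _ = m * Int.gcdA m e + e * Int.gcdB m e := by rw [← hm', ← he']
      _ = g * 1 := by rw [← h1, mul_one, hg]
  have hm'0 : 0 < m' := by
    have : (0 : ℤ) < g * m' := by rw [← hm']; omega
    exact pos_of_mul_pos_right this (by omega)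
  have h1 : x ^ m' = h ^ e' := by
    have h2 : (x ^ m' * (h ^ e')⁻¹) ^ g = 1 := by
      rw [mul_pow, inv_pow, ← zpow_natCast (x ^ m'), ← zpow_natCast (h ^ e'), ← zpow_mul,
        ← zpow_mul, mul_comm m', mul_comm e', ← hm', ← he', zpow_natCast, hx, mul_inv_cancel]
    exact mul_inv_eq_one.1 (htf _ _ hg0 h2)
  obtain ⟨u, v, huv⟩ := hco
  have h3 : (x ^ v * h ^ u) ^ m'.toNat = h := by
    rw [← zpow_natCast, Int.toNat_of_nonneg hm'0.le, mul_zpow, ← zpow_mul, ← zpow_mul,
      mul_comm v, zpow_mul, h1, ← zpow_mul, ← zpow_add]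
    have h4 : e' * v + u * m' = 1 := by rw [← huv]; ring
    rw [h4, zpow_one]
  have h5 : ¬ 2 ≤ m'.toNat := fun h6 ↦ hnd _ _ h6 h3
  have h7 : m' = 1 := by omega
  exact ⟨e', by rw [h7, zpow_one] at h1; exact h1⟩

end Groth.Agent.Lefpen.H21.PicTwist
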