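import Groth.Agent.Lefpen.H21.CiBase
import Groth.Agent.Lefpen.H21.PurInsep
import Groth.Agent.Lefpen.H21.PicTwist
import Groth.Agent.Ega3B.ProjProper

/-!
# Purely inseparable descent of invertible modules on complete intersections

`k/K` purely inseparable of characteristic `p`, `G` forms over `K`, `G'` their images over `k`.

* `exists_descent_ci`: every invertible module `L` on `V(G')` has a power `L ^ (p ^ E)` which is
  the pullback of an invertible module on `V(G)`.
* `forall_exists_iso_twist`: if every invertible module on `V(G)` is some `O(e)`, the Picard group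
  of `V(G')` is torsion-free and `O(1)` is not divisible there, then every invertible module
  on `V(G')` is some `O(e)`.
-/

set_option autoImplicit false
universe u

open CategoryTheory AlgebraicGeometry Limits TopologicalSpace Opposite

namespace Groth.Agent.Lefpen.H21.NL9

open LefPen Groth.Agent.CohqB.ProjBC Groth.Agent.Lefpen.H21.CiBase
  Groth.Agent.Lefpen.H21.PurInsep Groth.Agent.Lefpen.H21.PicTwist Groth.Agent.Grpsch.PicGrp

section proper

variable {r : ℕ} {K : Type u} [Field K] (I : (CohB1.ProjSpace r K).IdealSheafData)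

theorem isProper_subscheme : IsProper (I.subschemeι ≫ CohB1.ProjSpace.toSpec r K) := by
  have h1 : IsProper (CohB1.ProjSpace.toSpec r K) := Groth.Agent.Ega3B.ProjProper.isProper_toSpec r K
  infer_instance

theorem compactSpace_subscheme : CompactSpace I.subscheme := by
  have h := isProper_subscheme I
  exact QuasiCompact.compactSpace_of_compactSpace (I.subschemeι ≫ CohB1.ProjSpace.toSpec r K)

theorem quasiSeparatedSpace_subscheme : QuasiSeparatedSpace I.subscheme := by
  have h := isProper_subscheme I
  exact quasiSeparatedSpace_of_quasiSeparated (I.subschemeι ≫ CohB1.ProjSpace.toSpec r K)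

end proper

variable {K k : Type u} [Field K] [Field k] [Algebra K k] [IsPurelyInseparable K k]
  (p : ℕ) [Fact p.Prime] [CharP K p] {r : ℕ} {ι : Type} {a : ι → ℕ}
  (G : ∀ j, Form r K (a j)) (G' : ∀ j, Form r k (a j))
  (hG : ∀ j, G' j = mapForm (algebraMap K k) (G j))

include p in
/-- **A power of every class descends**, in the Picard group. -/
theorem exists_pull_ciMap_eq_pow (c : Pic (ciIdeal G').subscheme) :
    ∃ (E : ℕ) (d : Pic (ciIdeal G).subscheme),
      pull (ciMap (algebraMap K k) G G' hG) d = c ^ p ^ E := by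
  have h1 := compactSpace_subscheme (ciIdeal G)
  have h2 := quasiSeparatedSpace_subscheme (ciIdeal G)
  exact exists_pull_eq_pow p (isPullback_ciMap_toSpec (algebraMap K k) G G' hG) c

include p in
/-- **A power of every invertible module on `V(G')` descends to `V(G)`.** -/
theorem exists_descent_ci {L : (ciIdeal G').subscheme.Modules} (hL : PicF.IsInvertible L) :
    ∃ (E : ℕ) (M : (ciIdeal G).subscheme.Modules), PicF.IsInvertible M ∧
      Nonempty ((Scheme.Modules.pullback (ciMap (algebraMap K k) G G' hG)).obj M ≅
        CohB1.tensorPow L (p ^ E)) := by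
  have h1 := compactSpace_subscheme (ciIdeal G)
  have h2 := quasiSeparatedSpace_subscheme (ciIdeal G)
  exact exists_descent_pow_isPullback p (isPullback_ciMap_toSpec (algebraMap K k) G G' hG) hL

omit [IsPurelyInseparable K k] in
/-- The class of `O(1)` is compatible with base change. -/
theorem pull_ciMap_hyp : pull (ciMap (algebraMap K k) G G' hG) (hyp (ciIdeal G).subschemeι) =
    hyp (ciIdeal G').subschemeι := by
  have h1 := mk_pullback_twist (ciIdeal G).subschemeι (1 : ℤ)
  have h2 := mk_pullback_twist (ciIdeal G').subschemeι (1 : ℤ)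
  rw [zpow_one] at h1 h2
  rw [← h1, ← h2, pull_mk, mk_eq_iff]
  exact nonempty_pull_twist (algebraMap K k) G G' hG 1

include p in
/-- **NL-9.** If every invertible module on `V(G)` is some `O(e)`, the Picard group of `V(G')` is
torsion-free and `O(1)` is not divisible there, then every invertible module on `V(G')` is some
`O(e)`. -/
theorem forall_exists_iso_twist
    (h : ∀ M : (ciIdeal G).subscheme.Modules, PicF.IsInvertible M → ∃ e : ℤ,
      Nonempty (M ≅ (Scheme.Modules.pullback (ciIdeal G).subschemeι).obj
        (Twist.twistProjSpace r K e)))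
    (htf : ∀ L : (ciIdeal G').subscheme.Modules, PicF.IsInvertible L → ∀ m : ℕ, 1 ≤ m →
      Nonempty (CohB1.tensorPow L m ≅ Coh.structureModule (ciIdeal G').subscheme) →
        Nonempty (L ≅ Coh.structureModule (ciIdeal G').subscheme))
    (hnd : ∀ M : (ciIdeal G').subscheme.Modules, PicF.IsInvertible M → ∀ e : ℕ, 2 ≤ e →
      ¬ Nonempty (CohB1.tensorPow M e ≅
        (Scheme.Modules.pullback (ciIdeal G').subschemeι).obj (Twist.twistProjSpace r k 1)))
    (hG : ∀ j, G' j = mapForm (algebraMap K k) (G j))
    (L : (ciIdeal G').subscheme.Modules) (hL : PicF.IsInvertible L) :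
    ∃ e : ℤ, Nonempty (L ≅ (Scheme.Modules.pullback (ciIdeal G').subschemeι).obj
      (Twist.twistProjSpace r k e)) := by
  obtain ⟨E, d, hd⟩ := exists_pull_ciMap_eq_pow p G G' hG (mk L hL)
  obtain ⟨M, hM, rfl⟩ := exists_mk d
  obtain ⟨e, he⟩ := h M hM
  rw [(mk_eq_hyp_zpow_iff _ e hM).2 he, map_zpow, pull_ciMap_hyp] at hd
  obtain ⟨f, hf⟩ := exists_zpow_of_pow_eq_zpow (hyp (ciIdeal G').subschemeι) (fun x m hm hx ↦ by
      obtain ⟨N, hN, rfl⟩ := exists_mk x
      rw [← mk_tensorPow, mk_eq_one_iff] at hx
      rw [mk_eq_one_iff]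
      exact htf N hN m hm hx) (fun x m hm hx ↦ by
      obtain ⟨N, hN, rfl⟩ := exists_mk x
      rw [← mk_tensorPow, ← zpow_one (hyp _), mk_eq_hyp_zpow_iff] at hx
      exact hnd N hN m hm hx) (x := mk L hL) (m := p ^ E)
    (Nat.one_le_pow _ _ (Fact.out : p.Prime).pos) hd.symm
  exact ⟨f, (mk_eq_hyp_zpow_iff _ f hL).1 hf⟩

end Groth.Agent.Lefpen.H21.NL9
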